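import Groth.Prelude.Def_CGrpSh2
import Mathlib.CategoryTheory.Sites.EpiMono
import Mathlib.CategoryTheory.Sites.SheafCohomology.Basic
import Mathlib.CategoryTheory.Abelian.GrothendieckCategory.EnoughInjectives
import Mathlib.Algebra.Homology.DerivedCategory.Ext.ExactSequences
import Mathlib.Algebra.Homology.DerivedCategory.Ext.EnoughInjectives
import Mathlib.CategoryTheory.Abelian.Injective.Basic

/-!
# `H^1(𝓗om(F, G))` vanishes when `Ext^1(F, G)` does (large sites)
-/

set_option autoImplicit false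
set_option linter.unusedVariables false
set_option linter.style.haveILetI false

universe u

open CategoryTheory CategoryTheory.Limits Opposite Abelian

noncomputable section

namespace Groth.Agent.GaExt87.HomEdge

variable {C : Type (u + 1)} [Category.{u} C] {J : GrothendieckTopology C}

/-- Restriction. -/
abbrev rs (F : Sheaf J AddCommGrpCat.{u + 1}) {U V : C} (h : V ⟶ U) : F.obj.obj (op U) →+ F.obj.obj (op V) :=
  (F.obj.map h.op).hom

theorem rs_rs (F : Sheaf J AddCommGrpCat.{u + 1}) {U V W : C} (h : V ⟶ U) (k : W ⟶ V) (x : F.obj.obj (op U)) :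
    rs F k (rs F h x) = rs F (k ≫ h) x :=
  (CategoryTheory.congr_fun (F.obj.map_comp h.op k.op) x).symm

theorem rs_id (F : Sheaf J AddCommGrpCat.{u + 1}) {U : C} (x : F.obj.obj (op U)) : rs F (𝟙 U) x = x :=
  CategoryTheory.congr_fun (F.obj.map_id (op U)) x

/-- A map on sections. -/
abbrev sm {F G : Sheaf J AddCommGrpCat.{u + 1}} (f : F ⟶ G) (U : C) : F.obj.obj (op U) →+ G.obj.obj (op U) :=
  (f.hom.app (op U)).hom

theorem sm_rs {F G : Sheaf J AddCommGrpCat.{u + 1}} (f : F ⟶ G) {U V : C} (h : V ⟶ U) (x : F.obj.obj (op U)) :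
    sm f V (rs F h x) = rs G h (sm f U x) :=
  NatTrans.naturality_apply f.hom h.op x

theorem isSheafTypes (F : Sheaf J AddCommGrpCat.{u + 1}) :
    Presieve.IsSheaf J (F.obj ⋙ forget AddCommGrpCat.{u + 1}) :=
  (isSheaf_iff_isSheaf_of_type _ _).1 ((sheafCompose J (forget AddCommGrpCat.{u + 1})).obj F).property

theorem eq_of_sieve (F : Sheaf J AddCommGrpCat.{u + 1}) {U : C} {R : Sieve U} (hR : R ∈ J U) {x y : F.obj.obj (op U)}
    (h : ∀ ⦃V : C⦄ (f : V ⟶ U), R f → rs F f x = rs F f y) : x = y :=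
  (isSheafTypes F R hR).isSeparatedFor.ext h

/-- The constant sheaf of integers. -/
abbrev Zc (J : GrothendieckTopology C) [HasSheafify J AddCommGrpCat.{u + 1}] : Sheaf J AddCommGrpCat.{u + 1} :=
  (constantSheaf J AddCommGrpCat.{u + 1}).obj (AddCommGrpCat.of (ULift.{u + 1} ℤ))

section Glue

variable {F : Sheaf J AddCommGrpCat.{u + 1}}

/-- Compatible local choices on the covers of all objects give sections on all objects. -/
theorem exists_unique_amalgamation {U : C} {R : Sieve U} (hR : R ∈ J U)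
    (x : ∀ ⦃V : C⦄ (f : V ⟶ U), R f → F.obj.obj (op V))
    (hx : ∀ ⦃V W : C⦄ (f : V ⟶ U) (g : W ⟶ V) (hf : R f), x (g ≫ f) (R.downward_closed hf g) = rs F g (x f hf)) :
    ∃! t : F.obj.obj (op U), ∀ ⦃V : C⦄ (f : V ⟶ U) (hf : R f), rs F f t = x f hf :=
  isSheafTypes F R hR (fun V f hf => x f hf) ((Presieve.compatible_iff_sieveCompatible _).2 fun V W f g hf => hx f g hf)

end Glue

section Ev

variable {F G : Sheaf J AddCommGrpCat.{u + 1}}

/-- A morphism of restricted sheaves at an object over `T`. -/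
abbrev at' {T : C} (a : F.over T ⟶ G.over T) (Y : Over T) : F.obj.obj (op Y.left) →+ G.obj.obj (op Y.left) :=
  (a.hom.app (op Y)).hom

theorem rs_at {T : C} (a : F.over T ⟶ G.over T) {Y Y' : Over T} (k : Y' ⟶ Y) (f : F.obj.obj (op Y.left)) :
    rs G k.left (at' a Y f) = at' a Y' (rs F k.left f) :=
  (NatTrans.naturality_apply a.hom k.op f).symm

/-- The restriction of a morphism of restricted sheaves at the identity. -/
theorem at_res {T T' : C} (h : T' ⟶ T) (a : (HomSh.homSh J F G).obj.obj (op T)) (f : F.obj.obj (op T')) :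
    at' (rs (HomSh.homSh J F G) h a : F.over T' ⟶ G.over T') (Over.mk (𝟙 T')) f =
      at' (show F.over T ⟶ G.over T from a) (Over.mk h) f := by
  let a' : F.over T ⟶ G.over T := a
  let Y : Over T := (Over.map h).obj (Over.mk (𝟙 T'))
  let k : Over.mk h ⟶ Y := Over.homMk (𝟙 T') (by simp [Y])
  have h1 := rs_at a' k (show F.obj.obj (op Y.left) from f)
  change rs G (𝟙 T') (at' a' Y f) = at' a' (Over.mk h) (rs F (𝟙 T') f) at h1
  rw [rs_id, rs_id] at h1
  exact h1

end Ev

variable [HasSheafify J AddCommGrpCat.{u + 1}]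

/-- The adjunction. -/
def homEquiv (F : Sheaf J AddCommGrpCat.{u + 1}) :
    (Zc J ⟶ F) ≃ ((Functor.const Cᵒᵖ).obj (AddCommGrpCat.of (ULift.{u + 1} ℤ)) ⟶ F.obj) :=
  (sheafificationAdjunction J AddCommGrpCat.{u + 1}).homEquiv _ F

/-- Sections of a morphism out of the constant sheaf. -/
def secs {F : Sheaf J AddCommGrpCat.{u + 1}} (σ : Zc J ⟶ F) (U : C) : F.obj.obj (op U) :=
  (homEquiv F σ).app (op U) (ULift.up 1)

theorem rs_secs {F : Sheaf J AddCommGrpCat.{u + 1}} (σ : Zc J ⟶ F) {U V : C} (h : V ⟶ U) :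
    rs F h (secs σ U) = secs σ V :=
  (ConcreteCategory.congr_hom ((homEquiv F σ).naturality h.op) (ULift.up 1)).symm

theorem secs_comp {F F' : Sheaf J AddCommGrpCat.{u + 1}} (σ : Zc J ⟶ F) (g : F ⟶ F') (U : C) :
    secs (σ ≫ g) U = sm g U (secs σ U) :=
  (ConcreteCategory.congr_hom (congrArg (fun φ => NatTrans.app φ (op U))
    ((sheafificationAdjunction J AddCommGrpCat.{u + 1}).homEquiv_naturality_right σ g)) (ULift.up 1)).trans rfl

theorem secs_ext {F : Sheaf J AddCommGrpCat.{u + 1}} {σ σ' : Zc J ⟶ F} (h : ∀ U, secs σ U = secs σ' U) : σ = σ' := by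
  refine (homEquiv F).injective (NatTrans.ext (funext fun U => AddCommGrpCat.hom_ext (AddMonoidHom.ext fun n => ?_)))
  rw [show n = n.down • (ULift.up 1 : ULift.{u + 1} ℤ) from ULift.ext _ _ (by simp), map_zsmul, map_zsmul]
  exact congrArg (n.down • ·) (h U.unop)

theorem exists_secs {F : Sheaf J AddCommGrpCat.{u + 1}} (s : ∀ U, F.obj.obj (op U))
    (hs : ∀ ⦃U V : C⦄ (h : V ⟶ U), rs F h (s U) = s V) : ∃ σ : Zc J ⟶ F, ∀ U, secs σ U = s U := by
  let φ : (Functor.const Cᵒᵖ).obj (AddCommGrpCat.of (ULift.{u + 1} ℤ)) ⟶ F.obj :=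
    { app := fun U => AddCommGrpCat.ofHom ((zmultiplesHom _ (s U.unop)).comp AddEquiv.ulift.toAddMonoidHom)
      naturality := fun U V f => AddCommGrpCat.hom_ext (AddMonoidHom.ext fun n => by
        show n.down • s V.unop = F.obj.map f (n.down • s U.unop)
        rw [map_zsmul]
        exact congrArg (n.down • ·) (hs f.unop).symm) }
  exact ⟨(homEquiv F).symm φ, fun U => by rw [secs, Equiv.apply_symm_apply]; exact one_zsmul _⟩

variable [HasExt.{u + 1} (Sheaf J AddCommGrpCat.{u + 1})] [EnoughInjectives (Sheaf J AddCommGrpCat.{u + 1})]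

/-- Sections of a quotient by `𝓗om(F, G)` lift if `Ext^1(F, G)` vanishes. -/
theorem exists_lift {F G : Sheaf J AddCommGrpCat.{u + 1}} [Subsingleton (Ext.{u + 1} F G 1)]
    {S : ShortComplex (Sheaf J AddCommGrpCat.{u + 1})} (hS : S.ShortExact) (eH : HomSh.homSh J F G ⟶ S.X₁) [IsIso eH]
    (s : ∀ U, S.X₃.obj.obj (op U)) (hs : ∀ ⦃U V : C⦄ (h : V ⟶ U), rs S.X₃ h (s U) = s V) :
    ∃ q : ∀ U, S.X₂.obj.obj (op U), (∀ ⦃U V : C⦄ (h : V ⟶ U), rs S.X₂ h (q U) = q V) ∧ ∀ U, sm S.g U (q U) = s U := by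
  haveI := hS.mono_f
  haveI := hS.epi_g
  let H := HomSh.homSh J F G
  let e : H ⟶ S.X₂ := eH ≫ S.f
  have he : ∀ U, Function.Injective (sm e U) := fun U => by
    have : Mono ((sheafToPresheaf J AddCommGrpCat.{u + 1}).map e) := inferInstance
    have : Mono (((sheafToPresheaf J AddCommGrpCat.{u + 1}).map e).app (op U)) := inferInstance
    exact (AddCommGrpCat.mono_iff_injective _).1 this
  have hge : ∀ U (a : H.obj.obj (op U)), sm S.g U (sm e U a) = 0 := fun U a =>
    congr(($(show e ≫ S.g = 0 by simp [e])).hom.app (op U) a)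
  have hex : ∀ U (x : S.X₂.obj.obj (op U)), sm S.g U x = 0 → ∃ a, sm e U a = x := fun U x hx => by
    let Φ : Sheaf J AddCommGrpCat.{u + 1} ⥤ AddCommGrpCat.{u + 1} := sheafToPresheaf J _ ⋙ (evaluation Cᵒᵖ _).obj (op U)
    have : PreservesFiniteLimits Φ := comp_preservesFiniteLimits _ _
    have : Mono (Φ.map S.f) := inferInstance
    have h1 := (S.map Φ).exact_of_f_is_kernel (KernelFork.mapIsLimit _ hS.exact.fIsKernel Φ)
    rw [ShortComplex.ab_exact_iff] at h1
    obtain ⟨y, hy⟩ := h1 x hx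
    exact ⟨sm (inv eH) U y, (congr(($(show inv eH ≫ e = S.f by simp [e])).hom.app (op U) y)).trans hy⟩
  -- the lifts
  let P : C → Type (u + 1) := fun U => {p : S.X₂.obj.obj (op U) // sm S.g U p = s U}
  let res : ∀ {U V : C}, (V ⟶ U) → P U → P V := fun h p => ⟨rs S.X₂ h p.1, by rw [sm_rs, p.2, hs h]⟩
  have res_res : ∀ {U V W : C} (h : V ⟶ U) (k : W ⟶ V) (p : P U), res k (res h p) = res (k ≫ h) p :=
    fun h k p => Subtype.ext (rs_rs _ h k p.1)
  have hloc : ∀ U, ∃ R ∈ J U, ∀ ⦃V : C⦄ (f : V ⟶ U), R f → Nonempty (P V) := fun U => by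
    have h : Sheaf.IsLocallySurjective S.g := (Sheaf.isLocallySurjective_iff_epi' _ _).2 inferInstance
    refine ⟨_, Presheaf.imageSieve_mem J S.g.hom (s U), fun V f hf => ?_⟩
    exact ⟨⟨hf.choose, hf.choose_spec.trans (hs f)⟩⟩
  have hdiff : ∀ {U : C} (q p : P U), ∃ a, sm e U a = q.1 - p.1 := fun q p => hex _ _ (by
    rw [map_sub, q.2, p.2, sub_self])
  choose diff hd using @hdiff
  have diff_res : ∀ {U V : C} (h : V ⟶ U) (q p : P U), diff (res h q) (res h p) = rs H h (diff q p) := fun h q p => he _ (by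
    rw [hd, sm_rs, hd, map_sub])
  have diff_add : ∀ {U : C} (q p' p : P U), diff q p = diff q p' + diff p' p := fun q p' p => he _ (by
    rw [map_add, hd, hd, hd]; abel)
  -- an injective containing `G`
  let em : G ⟶ Injective.under G := Injective.ι G
  let I : Sheaf J AddCommGrpCat.{u + 1} := Injective.under G
  let M : Cᵒᵖ ⥤ AddCommGrpCat.{u + 1} :=
    { obj := fun T => AddCommGrpCat.of (∀ (T' : C) (_ : T' ⟶ T.unop), P T' → I.obj.obj (op T'))
      map := fun {T T'} g => AddCommGrpCat.ofHom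
        (AddMonoidHom.mk' (fun m W h q => m W (h ≫ g.unop) q) fun m m' => rfl)
      map_id := fun T => AddCommGrpCat.ext fun m => funext fun W => funext fun h => funext fun q =>
        congrArg (fun k => m W k q) (Category.comp_id h)
      map_comp := fun g g' => AddCommGrpCat.ext fun m => funext fun W => funext fun h => funext fun q =>
        congrArg (fun k => m W k q) (Category.assoc h g'.unop g.unop).symm }
  let inclM : I.obj ⟶ M :=
    { app := fun T => AddCommGrpCat.ofHom
        (AddMonoidHom.mk' (fun i W h _ => rs I h i) fun i j => funext fun W => funext fun h => funext fun _ => map_add _ i j)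
      naturality := fun T T' g => AddCommGrpCat.ext fun i => funext fun W => funext fun h => funext fun _ =>
        rs_rs I g.unop h i }
  haveI : Mono inclM := by
    haveI : ∀ T, Mono (inclM.app T) := fun T => (AddCommGrpCat.mono_iff_injective _).2 fun i j hij => by
      obtain ⟨R, hR, hne⟩ := hloc T.unop
      refine eq_of_sieve I hR fun V f hf => ?_
      obtain ⟨q⟩ := hne f hf
      exact congr($hij V f q)
    exact NatTrans.mono_of_mono_app _
  haveI : Injective I.obj :=
    Injective.injective_of_adjoint (sheafificationAdjunction J AddCommGrpCat.{u + 1}) I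
  let r : M ⟶ I.obj := Injective.factorThru (𝟙 I.obj) inclM
  have hr : ∀ T (i : I.obj.obj T), r.app T (inclM.app T i) = i := fun T i =>
    congr(($(Injective.comp_factorThru (𝟙 I.obj) inclM)).app T i)
  -- the element attached to a local section of `F` and a lift
  let m : ∀ {T : C} (p : P T), F.obj.obj (op T) →+ M.obj (op T) := fun {T} p =>
    AddMonoidHom.mk' (fun f W h q => sm em W (at' (show F.over W ⟶ G.over W from diff q (res h p))
      (Over.mk (𝟙 W)) (rs F h f))) fun f f' => funext fun W => funext fun h => funext fun q => by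
      simp only [map_add]
      rfl
  have m_res : ∀ {T T' : C} (g : T' ⟶ T) (p : P T) (f : F.obj.obj (op T)),
      M.map g.op (m p f) = m (res g p) (rs F g f) := fun {T T'} g p f => funext fun W => funext fun h => funext fun q => by
    show sm em W (at' (show F.over W ⟶ G.over W from diff q (res (h ≫ g) p)) (Over.mk (𝟙 W)) (rs F (h ≫ g) f)) =
      sm em W (at' (show F.over W ⟶ G.over W from diff q (res h (res g p))) (Over.mk (𝟙 W)) (rs F h (rs F g f)))
    rw [res_res, rs_rs]
  let φ : ∀ {T : C} (p : P T), F.obj.obj (op T) →+ I.obj.obj (op T) := fun {T} p => (r.app (op T)).hom.comp (m p)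
  have φ_res : ∀ {T T' : C} (g : T' ⟶ T) (p : P T) (f : F.obj.obj (op T)), rs I g (φ p f) = φ (res g p) (rs F g f) :=
    fun {T T'} g p f => by
      refine (ConcreteCategory.congr_hom (r.naturality g.op) (m p f)).symm.trans ?_
      exact congrArg (r.app (op T')) (m_res g p f)
  have φ_change : ∀ {T : C} (p' p : P T) (f : F.obj.obj (op T)),
      φ p' f = φ p f - sm em T (at' (show F.over T ⟶ G.over T from diff p' p) (Over.mk (𝟙 T)) f) := fun {T} p' p f => by
    have h1 : m p f = m p' f + inclM.app (op T) (sm em T (at' (show F.over T ⟶ G.over T from diff p' p) (Over.mk (𝟙 T)) f)) :=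
      funext fun W => funext fun h => funext fun q => by
        let k : Over.mk h ⟶ Over.mk (𝟙 T) := Over.homMk h (Category.comp_id h)
        show sm em W (at' (show F.over W ⟶ G.over W from diff q (res h p)) (Over.mk (𝟙 W)) (rs F h f)) =
          sm em W (at' (show F.over W ⟶ G.over W from diff q (res h p')) (Over.mk (𝟙 W)) (rs F h f)) +
            rs I h (sm em T (at' (show F.over T ⟶ G.over T from diff p' p) (Over.mk (𝟙 T)) f))
        rw [diff_add q (res h p') (res h p), diff_res, ← sm_rs, ← map_add]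
        refine congrArg (sm em W) ?_
        refine congrArg₂ (fun a b : G.obj.obj (op W) => a + b) rfl ?_
        exact (at_res h (diff p' p) (rs F h f)).trans (rs_at (show F.over T ⟶ G.over T from diff p' p) k f).symm
    show r.app (op T) (m p' f) = r.app (op T) (m p f) - _
    rw [h1, map_add, hr]
    exact (add_sub_cancel_right _ _).symm
  -- the global map `F ⟶ Q`
  let Q : Sheaf J AddCommGrpCat.{u + 1} := cokernel em
  let π : I ⟶ Q := cokernel.π em
  have hπ : ∀ T (x : G.obj.obj (op T)), sm π T (sm em T x) = 0 := fun T x => congr(($(cokernel.condition em)).hom.app (op T) x)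
  have hTriple : (ShortComplex.mk em π (cokernel.condition em)).ShortExact :=
    { exact := ShortComplex.exact_cokernel _ }
  have hψ : ∀ T (f : F.obj.obj (op T)), ∃! t : Q.obj.obj (op T),
      ∀ ⦃V : C⦄ (g : V ⟶ T) (p : P V), rs Q g t = sm π V (φ p (rs F g f)) := fun T f => by
    obtain ⟨R, hR, hne⟩ := hloc T
    have hindep : ∀ {V : C} (p p' : P V) (x : F.obj.obj (op V)), sm π V (φ p' x) = sm π V (φ p x) := fun p p' x => by
      rw [φ_change p' p, map_sub, hπ, sub_zero]
    obtain ⟨t, ht, huniq⟩ := exists_unique_amalgamation hR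
      (fun V g hg => sm π V (φ (hne g hg).some (rs F g f))) (fun V W g k hg => by
        rw [← sm_rs, φ_res, rs_rs]
        exact hindep _ _ _)
    refine ⟨t, fun V g p => ?_, fun t' ht' => huniq t' fun V g hg => ht' g _⟩
    refine eq_of_sieve Q (J.pullback_stable g hR) fun W k hk => ?_
    rw [rs_rs, ht _ hk, ← sm_rs, φ_res, rs_rs]
    exact hindep _ _ _
  choose ψ hψ hψu using hψ
  let Ψ : F ⟶ Q := ⟨{
    app := fun T => AddCommGrpCat.ofHom (AddMonoidHom.mk' (fun f => ψ T.unop f) fun f f' =>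
      (hψu T.unop (f + f') _ fun V g p => by rw [map_add, hψ T.unop f g p, hψ T.unop f' g p, map_add, map_add, map_add]).symm)
    naturality := fun T T' g => AddCommGrpCat.ext fun f =>
      (hψu T'.unop (rs F g.unop f) (rs Q g.unop (ψ T.unop f)) fun V k p => by
        rw [rs_rs, rs_rs]; exact hψ T.unop f _ p).symm }⟩
  obtain ⟨χ₀, hχ₀⟩ := Ext.covariant_sequence_exact₃ _ hTriple (Ext.mk₀ Ψ) (rfl : 0 + 1 = 1) (Subsingleton.elim _ _)
  obtain ⟨χ, rfl⟩ := (Ext.mk₀_bijective _ _).2 χ₀
  rw [Ext.mk₀_comp_mk₀] at hχ₀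
  have hχ : ∀ {T : C} (p : P T) (f : F.obj.obj (op T)), sm π T (φ p f - sm χ T f) = 0 := fun {T} p f => by
    rw [map_sub, sub_eq_zero]
    have h1 := hψ T f (𝟙 T) p
    rw [rs_id, rs_id] at h1
    rw [← h1]
    exact congr(($((Ext.mk₀_bijective _ _).1 hχ₀)).hom.app (op T) f).symm
  have hemi : ∀ T, Function.Injective (sm em T) := fun T => by
    have : Mono ((sheafToPresheaf J AddCommGrpCat.{u + 1}).map em) := inferInstance
    have : Mono (((sheafToPresheaf J AddCommGrpCat.{u + 1}).map em).app (op T)) := inferInstance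
    exact (AddCommGrpCat.mono_iff_injective _).1 this
  have hb : ∀ {T : C} (p : P T) (f : F.obj.obj (op T)), ∃ b, sm em T b = φ p f - sm χ T f := fun {T} p f => by
    let Φ : Sheaf J AddCommGrpCat.{u + 1} ⥤ AddCommGrpCat.{u + 1} := sheafToPresheaf J _ ⋙ (evaluation Cᵒᵖ _).obj (op T)
    have : PreservesFiniteLimits Φ := comp_preservesFiniteLimits _ _
    have : Mono (Φ.map (ShortComplex.mk em π (cokernel.condition em)).f) := inferInstance
    have h1 := ((ShortComplex.mk em π (cokernel.condition em)).map Φ).exact_of_f_is_kernel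
      (KernelFork.mapIsLimit _ hTriple.exact.fIsKernel Φ)
    rw [ShortComplex.ab_exact_iff] at h1
    exact h1 _ (hχ p f)
  choose b hb using @hb
  have b_res : ∀ {T T' : C} (g : T' ⟶ T) (p : P T) (f : F.obj.obj (op T)), rs G g (b p f) = b (res g p) (rs F g f) :=
    fun g p f => hemi _ (by rw [hb, sm_rs, hb, map_sub, φ_res, ← sm_rs])
  let β : ∀ {T : C}, P T → H.obj.obj (op T) := fun {T} p => (⟨{
    app := fun Y => AddCommGrpCat.ofHom (AddMonoidHom.mk'
      (fun f : F.obj.obj (op Y.unop.left) => b (res Y.unop.hom p) f)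
      fun f f' => hemi _ (by rw [hb, map_add, map_add, map_add, hb, hb]; abel))
    naturality := fun Y Y' k => AddCommGrpCat.ext fun f => by
      show b (res Y'.unop.hom p) (rs F k.unop.left f) = rs G k.unop.left (b (res Y.unop.hom p) f)
      refine Eq.trans ?_ (b_res k.unop.left (res Y.unop.hom p) f).symm
      exact congrArg (fun h => b h (rs F k.unop.left f))
        (((res_res _ _ p).trans (congrArg (fun h => res h p) (Over.w k.unop))).symm) }⟩ : F.over T ⟶ G.over T)
  have β_res : ∀ {T T' : C} (g : T' ⟶ T) (p : P T), rs H g (β p) = β (res g p) := fun {T T'} g p =>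
    Sheaf.hom_ext (NatTrans.ext (funext fun Y => AddCommGrpCat.ext fun f => by
      show b (res (Y.unop.hom ≫ g) p) f = b (res Y.unop.hom (res g p)) f
      rw [res_res]))
  have β_change : ∀ {T : C} (p' p : P T), β p' = β p - diff p' p := fun {T} p' p =>
    Sheaf.hom_ext (NatTrans.ext (funext fun Y => AddCommGrpCat.ext fun f => hemi _ (by
      show sm em _ (b (res Y.unop.hom p') f) =
        sm em Y.unop.left (b (res Y.unop.hom p) f - at' (show F.over T ⟶ G.over T from diff p' p) Y.unop f)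
      let f' : F.obj.obj (op Y.unop.left) := f
      let hY : Y.unop.left ⟶ T := Y.unop.hom
      refine (hb (res hY p') f').trans (Eq.trans ?_ (map_sub (sm em Y.unop.left) (b (res hY p) f') _).symm)
      refine Eq.trans ?_ (congrArg (fun z => z - _) (hb (res hY p) f').symm)
      rw [φ_change (res hY p') (res hY p), diff_res, sub_right_comm]
      refine congrArg (fun z => φ (res hY p) f' - sm χ _ f' - sm em Y.unop.left z) ?_
      exact at_res hY (diff p' p) f')))
  have hq : ∀ T, ∃! t : S.X₂.obj.obj (op T),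
      ∀ ⦃V : C⦄ (g : V ⟶ T) (p : P V), rs S.X₂ g t = sm e V (β p) + p.1 := fun T => by
    obtain ⟨R, hR, hne⟩ := hloc T
    have hindep : ∀ {V : C} (p p' : P V), sm e V (β p') + p'.1 = sm e V (β p) + p.1 := fun p p' => by
      rw [β_change p' p, map_sub, hd]; abel
    have hres : ∀ {V W : C} (k : W ⟶ V) (p : P V),
        rs S.X₂ k (sm e V (β p) + p.1) = sm e W (β (res k p)) + (res k p).1 := fun k p => by
      rw [map_add, ← sm_rs, β_res]
    obtain ⟨t, ht, huniq⟩ := exists_unique_amalgamation hR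
      (fun V g hg => sm e V (β (hne g hg).some) + (hne g hg).some.1) (fun V W g k hg => by
        rw [hres]; exact hindep _ _)
    refine ⟨t, fun V g p => ?_, fun t' ht' => huniq t' fun V g hg => ht' g _⟩
    refine eq_of_sieve S.X₂ (J.pullback_stable g hR) fun W k hk => ?_
    rw [rs_rs, ht _ hk, hres]
    exact hindep _ _
  choose q hq hqu using hq
  refine ⟨q, fun U V h => hqu V _ fun W g p => by rw [rs_rs]; exact hq U _ p, fun U => ?_⟩
  obtain ⟨R, hR, hne⟩ := hloc U
  refine eq_of_sieve S.X₃ hR fun V f hf => ?_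
  obtain ⟨p⟩ := hne f hf
  rw [← sm_rs, hq U f p, map_add, hge, zero_add, p.2, hs f]

/-- `H^1(𝓗om(F, G)) = 0` if `Ext^1(F, G) = 0`. -/
theorem subsingleton_H_one {F G : Sheaf J AddCommGrpCat.{u + 1}} (h : Subsingleton (Ext.{u + 1} F G 1)) :
    Subsingleton (Sheaf.H (HomSh.homSh J F G) 1) := by
  refine ⟨fun x y => ?_⟩
  suffices ∀ e : Ext.{u + 1} (Zc J) (HomSh.homSh J F G) 1, e = 0 from (this x).trans (this y).symm
  intro e
  let i : HomSh.homSh J F G ⟶ Injective.under (HomSh.homSh J F G) := Injective.ι _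
  let S := ShortComplex.mk i (cokernel.π i) (cokernel.condition i)
  have hS : S.ShortExact := { exact := ShortComplex.exact_cokernel _ }
  obtain ⟨σ₀, hσ₀⟩ := Ext.covariant_sequence_exact₁ _ hS e (Ext.eq_zero_of_injective _) (rfl : 0 + 1 = 1)
  obtain ⟨σ, rfl⟩ := (Ext.mk₀_bijective _ _).2 σ₀
  obtain ⟨q, hq, hqg⟩ := exists_lift (F := F) (G := G) hS (𝟙 (HomSh.homSh J F G)) (secs σ) fun U V k => rs_secs σ k
  obtain ⟨τ, hτ⟩ := exists_secs q hq
  have hτσ : τ ≫ S.g = σ := secs_ext fun U => by rw [secs_comp, hτ, hqg]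
  rw [← hσ₀, ← hτσ, ← Ext.mk₀_comp_mk₀, Ext.comp_assoc_of_second_deg_zero, hS.comp_extClass, Ext.comp_zero]

end Groth.Agent.GaExt87.HomEdge
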