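import Groth.Agent.GaExt87.Sheaf
import Mathlib.RingTheory.RingHom.FinitePresentation
import Mathlib.AlgebraicGeometry.Morphisms.FinitePresentation

/-!
# Lifting sections along the quotient by the multiplicative group, Zariski locally on affines
-/

set_option autoImplicit false
set_option linter.style.haveILetI false
set_option backward.isDefEq.respectTransparency false

universe u

open CategoryTheory CategoryTheory.Limits AlgebraicGeometry Opposite MonObj MonoidalCategory CartesianMonoidalCategory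
open Groth.Agent.SGA1Torsor
open scoped TensorProduct

noncomputable section

namespace Groth.Agent.GaExt87

local notation "Kf" => Scheme.fppfPrecoverage

variable {S : Scheme.{u}} {I Q : BigSite.Ab Kf S} {em : CGrpSh2.Gm Kf S ⟶ I} {π : I ⟶ Q} {w : em ≫ π = 0}
variable (hS : (ShortComplex.mk em π w).ShortExact)
variable {A : Type u} [CommRing A] (j : Spec (CommRingCat.of A) ⟶ S)

variable (em) in
/-- The section of a unit of an algebra. -/
def emQ {R : Type u} [CommRing R] [Algebra A R] (a : Rˣ) : BigSite.sect Kf I (QA j R) :=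
  emb em (QA j R) (Units.map (fn j R).symm.toMonoidHom a)

theorem emQ_mul {R : Type u} [CommRing R] [Algebra A R] (a b : Rˣ) :
    emQ em j (a * b) = emQ em j a + emQ em j b := by
  rw [emQ, map_mul, emb_mul]
  rfl

theorem rr_emQ {R R' : Type u} [CommRing R] [Algebra A R] [CommRing R'] [Algebra A R'] (f : R →ₐ[A] R')
    (a : Rˣ) : rr I (qmap j f) (emQ em j a) = emQ em j (Units.map f.toMonoidHom a) := by
  refine (rr_emb em (qmap j f) _).trans (congrArg (emb em _) (Units.ext ?_))
  exact app_symm j f a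

theorem rr_qmap_qmap (F : BigSite.Ab Kf S) {R R' R'' : Type u} [CommRing R] [Algebra A R] [CommRing R'] [Algebra A R']
    [CommRing R''] [Algebra A R''] (f : R →ₐ[A] R') (g : R' →ₐ[A] R'') (x : BigSite.sect Kf F (QA j R)) :
    rr F (qmap j g) (rr F (qmap j f) x) = rr F (qmap j (g.comp f)) x := by
  rw [← rr_comp, qmap_comp]

include hS

theorem emQ_injective {R : Type u} [CommRing R] [Algebra A R] : Function.Injective (emQ em j (R := R)) :=
  fun a b h => by
    haveI := hS.mono_f
    exact Units.ext ((fn j R).symm.injective (congrArg Units.val (emb_injective (em := em) _ h)))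

theorem exists_emQ {R : Type u} [CommRing R] [Algebra A R] (x : BigSite.sect Kf I (QA j R))
    (hx : sap π _ x = 0) : ∃ a : Rˣ, emQ em j a = x := by
  obtain ⟨b, rfl⟩ := exists_emb em hS x hx
  refine ⟨Units.map (fn j R).toMonoidHom b, congrArg (emb em _) (Units.ext ?_)⟩
  exact (fn j R).symm_apply_apply _

/-- A section lifts after a faithfully flat finitely presented extension. -/
theorem exists_lift_algebra (s : BigSite.sect Kf Q (Over.mk j)) :
    ∃ (B : Type u) (_ : CommRing B) (_ : Algebra A B), Module.FaithfullyFlat A B ∧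
      Algebra.FinitePresentation A B ∧
      ∃ y : BigSite.sect Kf I (QA j B),
        sap π _ y = rr Q (Over.homMk (Spec.map (CommRingCat.ofHom (algebraMap A B))) rfl : QA j B ⟶ Over.mk j) s := by
  have hT := imageSieve_mem em hS s
  rw [GrothendieckTopology.mem_over_iff] at hT
  obtain ⟨P₀, hP₀, hle⟩ := (Precoverage.mem_toGrothendieck_iff_of_isStableUnderComposition).1 hT
  obtain ⟨idx, X, f, rfl⟩ := P₀.exists_eq_ofArrows
  obtain ⟨κ, hκ, R', g, hg, hfac⟩ := AdeqSite.exists_finite_affine_refinement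
    (P := @Flat ⊓ @LocallyOfFinitePresentation) (fun f hf => have := hf.1; have := hf.2; f.isOpenMap)
    (fun _ _ _ hf => have := hf.1; have := hf.2; ⟨inferInstance, inferInstance⟩) f hP₀
    (R := CommRingCat.of A) (𝟙 (Spec (CommRingCat.of A)))
  change _ ∈ Scheme.precoverage _ _ at hg
  rw [Scheme.ofArrows_mem_precoverage_iff] at hg
  have hy : ∀ k, ∃ y : BigSite.sect Kf I (Over.mk (g k ≫ j)),
      sap π _ y = rr Q (Over.homMk (g k) rfl : Over.mk (g k ≫ j) ⟶ Over.mk j) s := fun k => by
    obtain ⟨i, h, hh⟩ := hfac k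
    rw [Category.comp_id] at hh
    have hmem := (Sieve.overEquiv (Over.mk j) _).downward_closed (hle _ _ ⟨i⟩) h
    rw [← hh, Sieve.overEquiv_iff] at hmem
    exact hmem
  choose y hy using hy
  let T : Scheme.{u} := ∐ fun k => Spec (R' k)
  let d : T ⟶ Spec (CommRingCat.of A) := Sigma.desc g
  haveI : Flat d := IsZariskiLocalAtSource.sigmaDesc fun k => (hg.2 k).1
  haveI : LocallyOfFinitePresentation d := IsZariskiLocalAtSource.sigmaDesc fun k => (hg.2 k).2
  haveI : Surjective d := ⟨fun z => by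
    obtain ⟨k, hk⟩ := hg.1 z
    obtain ⟨x, hx⟩ := hk
    refine ⟨Sigma.ι (fun k => Spec (R' k)) k x, ?_⟩
    rw [← Scheme.Hom.comp_apply]
    simpa [d] using hx⟩
  obtain ⟨φ, hφ⟩ := Spec.map_surjective (T.isoSpec.inv ≫ d)
  algebraize [φ.hom]
  haveI : Flat (Spec.map φ) := by rw [hφ]; infer_instance
  haveI : LocallyOfFinitePresentation (Spec.map φ) := by rw [hφ]; infer_instance
  haveI : Surjective (Spec.map φ) := by rw [hφ]; infer_instance
  haveI : Module.Flat A Γ(T, ⊤) :=
    RingHom.flat_algebraMap_iff.1 (HasRingHomProperty.Spec_iff.1 (‹Flat (Spec.map φ)›))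
  have hfp : Algebra.FinitePresentation A Γ(T, ⊤) :=
    RingHom.finitePresentation_algebraMap.1 (HasRingHomProperty.Spec_iff.1 (‹LocallyOfFinitePresentation (Spec.map φ)›))
  refine ⟨Γ(T, ⊤), inferInstance, inferInstance,
    Module.FaithfullyFlat.of_comap_surjective (fun z => Surjective.surj (f := Spec.map φ) z), hfp, ?_⟩
  let c : ∀ k, Over.mk (g k ≫ j) ⟶ QA j Γ(T, ⊤) := fun k => Over.homMk (Sigma.ι (fun k => Spec (R' k)) k ≫ T.isoSpec.hom) (by
    show _ ≫ Spec.map φ ≫ j = g k ≫ j
    rw [hφ]; simp [d])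
  have hcov : Presieve.ofArrows (fun k => (Over.mk (g k ≫ j)).left) (fun k => (c k).left) ∈
      (Kf).coverings (QA j Γ(T, ⊤)).left := by
    refine Scheme.zariskiPrecoverage_le_fppfPrecoverage _ ?_
    rw [Scheme.zariskiPrecoverage, Scheme.ofArrows_mem_precoverage_iff]
    refine ⟨fun z => ?_, fun k => inferInstanceAs (IsOpenImmersion (_ ≫ _))⟩
    obtain ⟨z', rfl⟩ := T.isoSpec.hom.surjective z
    obtain ⟨⟨k, x⟩, rfl⟩ := (sigmaMk fun k => Spec (R' k)).surjective z'
    rw [sigmaMk_mk]
    exact ⟨k, x, Scheme.Hom.comp_apply _ _ _⟩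
  obtain ⟨t, ht⟩ := exists_glue I _ c hcov y (fun i i' Z gi gj hgg => by
    have hl : gi.left ≫ Sigma.ι (fun k => Spec (R' k)) i = gj.left ≫ Sigma.ι (fun k => Spec (R' k)) i' := by
      rw [← cancel_mono T.isoSpec.hom, Category.assoc, Category.assoc]
      exact congrArg CommaMorphism.left hgg
    by_cases hii : i = i'
    · subst hii
      rw [show gi = gj from Over.OverMorphism.ext ((cancel_mono _).1 hl)]
    · haveI : IsEmpty Z.left := isEmpty_of_commSq_sigmaι_of_ne ⟨hl⟩ hii
      haveI := subsingleton_of_isEmpty Scheme.zariskiPrecoverage_le_fppfPrecoverage I Z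
      exact Subsingleton.elim _ _)
  refine ⟨t, eq_of_cover Q _ c hcov fun k => ?_⟩
  rw [← sap_rr, ht, hy, ← rr_comp]
  refine congrArg (fun h => rr Q h s) (Over.OverMorphism.ext ?_)
  show g k = (Sigma.ι (fun k => Spec (R' k)) k ≫ T.isoSpec.hom) ≫ Spec.map φ
  rw [hφ]
  simp [d]

/-- A section lifts Zariski locally on an affine scheme. -/
theorem exists_lift_basicOpen (s : BigSite.sect Kf Q (Over.mk j)) (p : PrimeSpectrum A) :
    ∃ V : (Spec (CommRingCat.of A)).Opens, p ∈ V ∧ ∃ t : BigSite.sect Kf I (Over.mk (V.ι ≫ j)),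
      sap π _ t = rr Q (Over.homMk V.ι rfl : Over.mk (V.ι ≫ j) ⟶ Over.mk j) s := by
  obtain ⟨B, _, _, hff, hfp, y, hy⟩ := exists_lift_algebra hS j s
  let q₁ : B →ₐ[A] B ⊗[A] B := Algebra.TensorProduct.includeLeft
  let q₂ : B →ₐ[A] B ⊗[A] B := Algebra.TensorProduct.includeRight
  obtain ⟨c, hc⟩ := exists_emQ hS j (rr I (qmap j q₂) y - rr I (qmap j q₁) y) (by
    rw [map_sub, sap_rr, sap_rr, hy, sub_eq_zero, ← rr_comp, ← rr_comp]
    refine congrArg (fun h => rr Q h s) (Over.OverMorphism.ext ?_)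
    show Spec.map _ ≫ Spec.map _ = Spec.map _ ≫ Spec.map _
    rw [← Spec.map_comp, ← Spec.map_comp, ← CommRingCat.ofHom_comp, ← CommRingCat.ofHom_comp]
    exact congrArg (fun r => Spec.map (CommRingCat.ofHom r)) (q₂.comp_algebraMap.trans q₁.comp_algebraMap.symm))
  have hco : a13 (c : B ⊗[A] B) = a23 (c : B ⊗[A] B) * a12 (c : B ⊗[A] B) := by
    refine congrArg Units.val (emQ_injective hS j
      (a₁ := Units.map a13.toMonoidHom c) (a₂ := Units.map a23.toMonoidHom c * Units.map a12.toMonoidHom c) ?_)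
    rw [emQ_mul, ← rr_emQ, ← rr_emQ, ← rr_emQ, hc, map_sub, map_sub, map_sub, rr_qmap_qmap, rr_qmap_qmap,
      rr_qmap_qmap, rr_qmap_qmap, rr_qmap_qmap, rr_qmap_qmap]
    rw [show (a13 (A := A) (B := B)).comp q₂ = a23.comp q₂ from by ext b; simp [q₂],
      show (a13 (A := A) (B := B)).comp q₁ = a12.comp q₁ from by ext b; simp [q₁],
      show (a23 (A := A) (B := B)).comp q₁ = a12.comp q₂ from by ext b; simp [q₁, q₂]]
    abel
  obtain ⟨e, m, hep, hem', hum⟩ := exists_unit_trivialisation c hco p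
  let R := Localization.Away (algebraMap A B e)
  let r : B →ₐ[A] R := IsScalarTower.toAlgHom A B R
  haveI : Module.Flat B R := IsLocalization.flat R (Submonoid.powers (algebraMap A B e))
  haveI : Module.Flat A R := Module.Flat.trans A B R
  haveI : Algebra.FinitePresentation B R := IsLocalization.Away.finitePresentation (algebraMap A B e)
  haveI : Algebra.FinitePresentation A R := Algebra.FinitePresentation.trans A B R
  obtain ⟨u, hu⟩ : ∃ u : Rˣ, (u : R) = r m := ⟨hum.unit, rfl⟩
  let ψ : B ⊗[A] B →ₐ[A] R ⊗[A] R := Algebra.TensorProduct.map r r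
  let p₁ : R →ₐ[A] R ⊗[A] R := Algebra.TensorProduct.includeLeft
  let p₂ : R →ₐ[A] R ⊗[A] R := Algebra.TensorProduct.includeRight
  have hψ₁ : ψ.comp q₁ = p₁.comp r := by ext b; simp [ψ, p₁, q₁]
  have hψ₂ : ψ.comp q₂ = p₂.comp r := by ext b; simp [ψ, p₂, q₂]
  let y' : BigSite.sect Kf I (QA j R) := rr I (qmap j r) y - emQ em j u
  have heq : rr I (qmap j p₁) y' = rr I (qmap j p₂) y' := by
    have h1 := congrArg (rr I (qmap j ψ)) hc
    rw [map_sub, rr_qmap_qmap, rr_qmap_qmap, hψ₁, hψ₂, rr_emQ] at h1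
    have h2 : Units.map ψ.toMonoidHom c * Units.map p₁.toMonoidHom u = Units.map p₂.toMonoidHom u := by
      refine Units.ext ?_
      have h3 := congrArg ψ hem'
      rw [map_mul] at h3
      simpa [ψ, p₁, p₂, hu] using h3
    simp only [y', map_sub, rr_qmap_qmap, rr_emQ]
    rw [← h2, emQ_mul, h1]
    abel
  let V : (Spec (CommRingCat.of A)).Opens := PrimeSpectrum.basicOpen e
  refine ⟨V, hep, ?_⟩
  have hrange : Set.range (Spec.map (CommRingCat.ofHom (algebraMap A R))) = (V : Set (Spec (CommRingCat.of A))) := by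
    show Set.range (PrimeSpectrum.comap (algebraMap A R)) = PrimeSpectrum.basicOpen e
    rw [IsScalarTower.algebraMap_eq A B R, PrimeSpectrum.comap_comp, Set.range_comp,
      PrimeSpectrum.localization_away_comap_range R (algebraMap A B e)]
    exact Set.image_preimage_eq (PrimeSpectrum.basicOpen e : Set (PrimeSpectrum A))
      PrimeSpectrum.comap_surjective_of_faithfullyFlat
  let f₀ : Spec (CommRingCat.of R) ⟶ (V : Scheme.{u}) :=
    IsOpenImmersion.lift V.ι (Spec.map (CommRingCat.ofHom (algebraMap A R))) (by rw [hrange, Scheme.Opens.range_ι])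
  have hf₀ : f₀ ≫ V.ι = Spec.map (CommRingCat.ofHom (algebraMap A R)) := IsOpenImmersion.lift_fac _ _ _
  let f : QA j R ⟶ Over.mk (V.ι ≫ j) := Over.homMk f₀ (by
    show f₀ ≫ V.ι ≫ j = Spec.map _ ≫ j
    rw [reassoc_of% hf₀])
  have hsq : IsPullback (𝟙 _) f₀ (Spec.map (CommRingCat.ofHom (algebraMap A R))) V.ι := by
    refine IsPullback.of_iso_pullback ⟨by rw [Category.id_comp, hf₀]⟩ ?_ ?_ ?_
    · exact ⟨pullback.lift (𝟙 _) f₀ (by rw [Category.id_comp, hf₀]), pullback.fst _ _, pullback.lift_fst _ _ _,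
        pullback.hom_ext (by simp) ((cancel_mono V.ι).1 (by
          simp only [Category.assoc, Category.id_comp, pullback.lift_snd, hf₀, pullback.condition]))⟩
    · exact pullback.lift_fst _ _ _
    · exact pullback.lift_snd _ _ _
  have hcov : Presieve.ofArrows (fun _ : PUnit.{u + 1} => (QA j R).left) (fun _ => f.left) ∈
      (Kf).coverings (Over.mk (V.ι ≫ j)).left := by
    change _ ∈ Scheme.precoverage _ _
    rw [Scheme.ofArrows_mem_precoverage_iff]
    refine ⟨fun z => ?_, fun _ => ⟨?_, ?_⟩⟩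
    · obtain ⟨x, hx⟩ : z.1 ∈ Set.range (Spec.map (CommRingCat.ofHom (algebraMap A R))) := by rw [hrange]; exact z.2
      refine ⟨PUnit.unit, x, Subtype.ext ?_⟩
      exact (congr($hf₀ x)).trans hx
    · exact MorphismProperty.of_isPullback hsq (HasRingHomProperty.Spec_iff.2 (RingHom.flat_algebraMap_iff.2 inferInstance))
    · exact MorphismProperty.of_isPullback hsq (HasRingHomProperty.Spec_iff.2 (RingHom.finitePresentation_algebraMap.2 inferInstance))
  have hpb : IsPullback (qmap j p₁).left (qmap j p₂).left f₀ f₀ := by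
    have h := isPullback_SpecMap_of_isPushout _ _ _ _ (CommRingCat.isPushout_tensorProduct A R R)
    rw [← hf₀] at h
    refine IsPullback.of_isLimit' ⟨?_⟩ ?_
    · rw [← cancel_mono V.ι, Category.assoc, Category.assoc]; exact h.w
    · refine PullbackCone.IsLimit.mk _ (fun c => h.lift c.fst c.snd (by rw [← Category.assoc, ← Category.assoc, c.condition]))
        (fun c => h.lift_fst _ _ _) (fun c => h.lift_snd _ _ _) fun c m h₁ h₂ => h.hom_ext ?_ ?_
      · rw [h.lift_fst]; exact h₁
      · rw [h.lift_snd]; exact h₂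
  obtain ⟨t, ht⟩ := exists_glue_of_isPullback I (fun _ : PUnit.{u + 1} => QA j R) (fun _ => f) hcov
    (fun _ _ => QA j (R ⊗[A] R)) (fun _ _ => qmap j p₁) (fun _ _ => qmap j p₂) (fun _ _ => hpb) (fun _ => y')
    (fun _ _ => heq)
  refine ⟨t, eq_of_cover Q (fun _ : PUnit.{u + 1} => QA j R) (fun _ => f) hcov fun i => ?_⟩
  rw [← sap_rr, ht i, map_sub, sap_rr, hy, ← rr_comp, ← rr_comp, show sap π _ (emQ em j u) = 0 from sap_emb em _ _ w,
    sub_zero]
  refine congrArg (fun h => rr Q h s) (Over.OverMorphism.ext ?_)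
  show Spec.map _ ≫ Spec.map _ = f₀ ≫ V.ι
  rw [hf₀, ← Spec.map_comp, ← CommRingCat.ofHom_comp]
  exact congrArg (fun r => Spec.map (CommRingCat.ofHom r)) r.comp_algebraMap

end Groth.Agent.GaExt87
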