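import Groth.Agent.GaExt87.Pic
import Groth.Prelude.Def_CGrpSh
import Mathlib.Algebra.Homology.DerivedCategory.Ext.ExactSequences
import Mathlib.Algebra.Homology.DerivedCategory.Ext.EnoughInjectives
import Mathlib.Algebra.MvPolynomial.Nilpotent

/-!
# Extensions of the additive group by the multiplicative group over a reduced base
-/

set_option autoImplicit false
set_option linter.style.haveILetI false

universe u

open CategoryTheory CategoryTheory.Limits AlgebraicGeometry Opposite MonObj GrpObj MonoidalCategory CartesianMonoidalCategory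
open Groth.Agent.SGA1Torsor

noncomputable section

namespace Groth.Agent.GaExt87

local notation "Kf" => Scheme.fppfPrecoverage

theorem eq_algebraMap_of_isUnit {A : Type u} [CommRing A] [IsReduced A] {σ : Type*} {P : MvPolynomial σ A}
    (hP : IsUnit P) : ∃ a : Aˣ, MvPolynomial.C (a : A) = P := by
  obtain ⟨h1, h2⟩ := MvPolynomial.isUnit_iff_totalDegree_of_isReduced.1 hP
  exact ⟨h1.unit, (MvPolynomial.totalDegree_eq_zero_iff_eq_C.1 h2).symm⟩

variable {S : Scheme.{u}} {I Q : BigSite.Ab Kf S} {em : CGrpSh2.Gm Kf S ⟶ I} {π : I ⟶ Q} {w : em ≫ π = 0}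
variable (hS : (ShortComplex.mk em π w).ShortExact)

/-- A point of the additive group as a section. -/
def pE {T : Over S} (p : T ⟶ Red.Ga S) : BigSite.sect Kf (CGrpSh2.Ga Kf S) T := ULift.up (Additive.ofMul p)

theorem pE_mul {T : Over S} (p q : T ⟶ Red.Ga S) : pE (p * q) = pE p + pE q := rfl

theorem pE_one {T : Over S} : pE (1 : T ⟶ Red.Ga S) = 0 := rfl

theorem rr_pE {T T' : Over S} (h : T' ⟶ T) (p : T ⟶ Red.Ga S) : rr (CGrpSh2.Ga Kf S) h (pE p) = pE (h ≫ p) := rfl

include hS

/-- Every morphism to the quotient lifts. -/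
theorem exists_hom_lift [IsReduced S] (hPic : ∀ L : (Red.Ga S).left.Modules, PicF.IsInvertible L →
      Nonempty (L ≅ Coh.structureModule (Red.Ga S).left)) (σ : CGrpSh2.Ga Kf S ⟶ Q) :
    ∃ τ : CGrpSh2.Ga Kf S ⟶ I, τ ≫ π = σ := by
  obtain ⟨x₀, hx₀⟩ := exists_lift hS (Red.Ga S) hPic (sap σ _ (pE (𝟙 (Red.Ga S))))
  let L : ∀ {T : Over S}, (T ⟶ Red.Ga S) → BigSite.sect Kf I T := fun p => rr I p x₀ - rr I 1 x₀
  have hπ : ∀ {T : Over S} (p : T ⟶ Red.Ga S), sap π T (rr I p x₀) = sap σ T (pE p) := fun p => by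
    rw [sap_rr, hx₀, ← sap_rr, rr_pE, Category.comp_id]
  have hπL : ∀ {T : Over S} (p : T ⟶ Red.Ga S), sap π T (L p) = sap σ T (pE p) := fun p => by
    simp only [L, map_sub, hπ, pE_one, map_zero, sub_zero]
  have hL : ∀ {T T' : Over S} (h : T' ⟶ T) (p : T ⟶ Red.Ga S), rr I h (L p) = L (h ≫ p) := fun h p => by
    simp only [L, map_sub, ← rr_comp, MonObj.comp_one]
  let E : ∀ {T : Over S}, (T ⟶ Red.Ga S) → (T ⟶ Red.Ga S) → BigSite.sect Kf I T :=
    fun p q => L p + L q - L (p * q)
  have hE : ∀ {T T' : Over S} (h : T' ⟶ T) (p q : T ⟶ Red.Ga S), rr I h (E p q) = E (h ≫ p) (h ≫ q) :=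
    fun h p q => by simp only [E, map_sub, map_add, hL, MonObj.comp_mul]
  -- vanishing over affine schemes mapping into affine opens of the base
  have haff : ∀ (A : Type u) [CommRing A] [IsReduced A] (j : Spec (CommRingCat.of A) ⟶ S) (C : Type u) [CommRing C]
      [Algebra A C] (p q : QA j C ⟶ Red.Ga S), E p q = 0 := by
    intro A _ _ j C _ _ p q
    let R := MvPolynomial (Fin 2) A
    let X₀ : QA j R ⟶ Red.Ga S := gaQ j (MvPolynomial.X 0)
    let X₁ : QA j R ⟶ Red.Ga S := gaQ j (MvPolynomial.X 1)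
    obtain ⟨v, hv⟩ := exists_emQ hS j (E X₀ X₁) (by
      simp only [E, map_sub, map_add, hπL, pE_mul, sub_self])
    obtain ⟨a, ha⟩ := eq_algebraMap_of_isUnit v.isUnit
    have key : ∀ (D : Type u) [CommRing D] [Algebra A D] (c d : D),
        E (gaQ j c) (gaQ j d) = emQ em j (Units.map (algebraMap A D).toMonoidHom a) := fun D _ _ c d => by
      let φ : R →ₐ[A] D := MvPolynomial.aeval ![c, d]
      have e₀ : qmap j φ ≫ X₀ = gaQ j c := (comp_gaQ j φ _).trans (congrArg (gaQ j) (MvPolynomial.aeval_X _ _))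
      have e₁ : qmap j φ ≫ X₁ = gaQ j d := (comp_gaQ j φ _).trans (congrArg (gaQ j) (MvPolynomial.aeval_X _ _))
      rw [← e₀, ← e₁, ← hE, ← hv, rr_emQ]
      refine congrArg (emQ em j) (Units.ext ?_)
      show φ (v : R) = algebraMap A D a
      rw [← ha]
      exact φ.commutes _
    let : Group (QA j A ⟶ Red.Ga S) := Hom.group
    have hone : gaQ j (0 : A) = 1 := by
      have h := gaQ_mul j (R := A) 0 0
      rw [add_zero] at h
      exact left_eq_mul.1 h
    have h0 : E (gaQ j (0 : A)) (gaQ j 0) = 0 := by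
      simp only [hone, E, L]; rw [_root_.one_mul]; abel
    have ha1 : a = 1 := by
      have h1 : emQ em j (1 : Aˣ) = 0 := by
        have := emQ_mul (em := em) j (R := A) 1 1
        rw [_root_.mul_one] at this
        exact left_eq_add.1 this
      have h2 := emQ_injective hS j (((key A 0 0).symm.trans h0).trans h1.symm)
      exact Units.ext (congrArg Units.val h2)
    obtain ⟨c, rfl⟩ := exists_gaQ j p
    obtain ⟨d, rfl⟩ := exists_gaQ j q
    rw [key, ha1, map_one]
    have := emQ_mul (em := em) j (R := C) 1 1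
    rw [_root_.mul_one] at this
    exact left_eq_add.1 this
  have hadd : ∀ {T : Over S} (p q : T ⟶ Red.Ga S), L (p * q) = L p + L q := fun {T} p q => by
    have hch : ∀ x : T.left, ∃ (A : Type u) (_ : CommRing A) (_ : IsReduced A) (j : Spec (CommRingCat.of A) ⟶ S)
        (C : Type u) (_ : CommRing C) (_ : Algebra A C) (g : QA j C ⟶ T),
        IsOpenImmersion g.left ∧ x ∈ Set.range g.left := fun x => by
      obtain ⟨U, hU, hxU, -⟩ := exists_isAffineOpen_mem_and_subset (show T.hom x ∈ (⊤ : S.Opens) from trivial)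
      obtain ⟨V, hV, hxV, hVU⟩ := exists_isAffineOpen_mem_and_subset (show x ∈ T.hom ⁻¹ᵁ U from hxU)
      let : Algebra Γ(S, U) Γ(T.left, V) := (T.hom.appLE U V hVU).hom.toAlgebra
      refine ⟨Γ(S, U), inferInstance, inferInstance, hU.fromSpec, Γ(T.left, V), inferInstance, inferInstance,
        Over.homMk hV.fromSpec (hU.SpecMap_appLE_fromSpec T.hom hV hVU).symm, (inferInstance : IsOpenImmersion hV.fromSpec), ?_⟩
      · show x ∈ Set.range hV.fromSpec
        rw [hV.range_fromSpec]
        exact hxV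
    choose A _ _ j C _ _ g hg hmem using hch
    have hcov : Presieve.ofArrows (fun x : T.left => (QA (j x) (C x)).left) (fun x => (g x).left) ∈
        (Kf).coverings T.left := by
      refine Scheme.zariskiPrecoverage_le_fppfPrecoverage _ ?_
      rw [Scheme.zariskiPrecoverage, Scheme.ofArrows_mem_precoverage_iff]
      exact ⟨fun x => ⟨x, hmem x⟩, hg⟩
    refine eq_of_cover I (fun x : T.left => QA (j x) (C x)) g hcov fun x => ?_
    rw [map_add, hL, hL, hL, MonObj.comp_mul]
    exact (sub_eq_zero.1 (haff (A x) (j x) (C x) (g x ≫ p) (g x ≫ q))).symm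
  let τ : CGrpSh2.Ga Kf S ⟶ I := ⟨{
    app := fun T => AddCommGrpCat.ofHom (AddMonoidHom.mk'
      (fun z => L (show unop T ⟶ Red.Ga S from Additive.toMul (ULift.down z))) (fun z z' => hadd _ _))
    naturality := fun T T' h => AddCommGrpCat.ext fun z => (hL h.unop _).symm }⟩
  exact ⟨τ, Sheaf.hom_ext (NatTrans.ext (funext fun T => AddCommGrpCat.ext fun z => hπL _))⟩

omit hS in
theorem subsingleton_ext_one (X : Scheme.{u}) [IsReduced X]
    (hPic : ∀ L : (Red.Ga X).left.Modules, PicF.IsInvertible L →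
      Nonempty (L ≅ Coh.structureModule (Red.Ga X).left)) :
    Subsingleton (CGrpSh.ExtS Scheme.fppfPrecoverage (Red.Ga X) (Red.Gm X) 1) := by
  refine subsingleton_of_forall_eq 0 fun e => ?_
  let S' := ShortComplex.mk (Injective.ι (CGrpSh2.Gm Kf X)) (cokernel.π (Injective.ι (CGrpSh2.Gm Kf X)))
    (cokernel.condition _)
  have hS' : S'.ShortExact :=
    { exact := ShortComplex.exact_cokernel _ }
  obtain ⟨σ₀, hσ₀⟩ := Abelian.Ext.covariant_sequence_exact₁ _ hS' e
    (Abelian.Ext.eq_zero_of_injective _) (rfl : 0 + 1 = 1)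
  obtain ⟨σ, rfl⟩ := (Abelian.Ext.mk₀_bijective _ _).2 σ₀
  obtain ⟨τ, hτ⟩ := exists_hom_lift hS' hPic σ
  rw [← hσ₀, ← hτ, ← Abelian.Ext.mk₀_comp_mk₀, Abelian.Ext.comp_assoc_of_second_deg_zero, hS'.comp_extClass,
    Abelian.Ext.comp_zero]

end Groth.Agent.GaExt87
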