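import Groth.Agent.GaExt87.Affine
import Groth.Agent.LineCoc.Basic

/-!
# Lifting sections along the quotient by the multiplicative group over schemes with trivial Picard group
-/

set_option autoImplicit false
set_option linter.style.haveILetI false
set_option backward.isDefEq.respectTransparency false

universe u

open CategoryTheory CategoryTheory.Limits AlgebraicGeometry Opposite TopologicalSpace
open Groth.Agent.QCoh Groth.Agent.Props.GenLocus

noncomputable section

namespace Groth.Agent.GaExt87

local notation "Kf" => Scheme.fppfPrecoverage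

variable {S : Scheme.{u}} {I Q : BigSite.Ab Kf S} {em : CGrpSh2.Gm Kf S ⟶ I} {π : I ⟶ Q} {w : em ≫ π = 0}
variable (hS : (ShortComplex.mk em π w).ShortExact)
variable (T : Over S)

/-- An open piece of an object of the big site. -/
abbrev opn (W : T.left.Opens) : Over S := Over.mk (W.ι ≫ T.hom)

/-- The inclusion of an open piece. -/
def inc (W : T.left.Opens) : opn T W ⟶ T := Over.homMk W.ι rfl

/-- The inclusion of open pieces. -/
def incl {W W' : T.left.Opens} (h : W ≤ W') : opn T W ⟶ opn T W' :=
  Over.homMk (T.left.homOfLE h) (by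
    show T.left.homOfLE h ≫ W'.ι ≫ T.hom = W.ι ≫ T.hom
    rw [← Category.assoc, Scheme.homOfLE_ι])

theorem incl_inc {W W' : T.left.Opens} (h : W ≤ W') : incl T h ≫ inc T W' = inc T W :=
  Over.OverMorphism.ext (T.left.homOfLE_ι h)

theorem incl_incl {W W' W'' : T.left.Opens} (h : W ≤ W') (h' : W' ≤ W'') :
    incl T h ≫ incl T h' = incl T (h.trans h') :=
  Over.OverMorphism.ext (T.left.homOfLE_homOfLE h h')

variable (em) in
/-- The section of a unit on an open piece. -/
def emW (W : T.left.Opens) (a : Γ(T.left, W)ˣ) : BigSite.sect Kf I (opn T W) :=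
  emb em (opn T W) (Units.map W.topIso.inv.hom.toMonoidHom a)

theorem emW_mul (W : T.left.Opens) (a b : Γ(T.left, W)ˣ) :
    emW em T W (a * b) = emW em T W a + emW em T W b := by
  rw [emW, map_mul, emb_mul]
  rfl

theorem rr_emW {W W' : T.left.Opens} (h : W ≤ W') (a : Γ(T.left, W')ˣ) :
    rr I (incl T h) (emW em T W' a) = emW em T W (Units.map (rres h).hom.toMonoidHom a) := by
  refine (rr_emb em (incl T h) _).trans (congrArg (emb em _) (Units.ext ?_))
  show (T.left.homOfLE h).appTop (W'.topIso.inv (a : Γ(T.left, W'))) = W.topIso.inv (rres h (a : Γ(T.left, W')))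
  rw [Scheme.homOfLE_appTop, Scheme.Opens.topIso_inv, Scheme.Opens.topIso_inv, ← ConcreteCategory.comp_apply,
    ← ConcreteCategory.comp_apply, ← Functor.map_comp, ← Functor.map_comp]
  rfl

include hS

theorem exists_emW (W : T.left.Opens) (x : BigSite.sect Kf I (opn T W)) (hx : sap π _ x = 0) :
    ∃ a, emW em T W a = x := by
  obtain ⟨b, rfl⟩ := exists_emb em hS x hx
  refine ⟨Units.map W.topIso.hom.hom.toMonoidHom b, congrArg (emb em _) (Units.ext ?_)⟩
  exact ConcreteCategory.congr_hom W.topIso.hom_inv_id _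

theorem emW_injective (W : T.left.Opens) : Function.Injective (emW em T W) := fun a b h => by
  haveI := hS.mono_f
  have h1 := congrArg Units.val (emb_injective (em := em) _ h)
  have h2 := congrArg W.topIso.hom h1
  refine Units.ext ?_
  simpa [← ConcreteCategory.comp_apply] using h2

/-- A section lifts Zariski locally. -/
theorem exists_lift_nhd (s : BigSite.sect Kf Q T) (x : T.left) :
    ∃ W : T.left.Opens, x ∈ W ∧ ∃ t : BigSite.sect Kf I (opn T W), sap π _ t = rr Q (inc T W) s := by
  obtain ⟨U, hU, hxU, -⟩ := exists_isAffineOpen_mem_and_subset (show x ∈ (⊤ : T.left.Opens) from trivial)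
  obtain ⟨p, hp⟩ : x ∈ Set.range hU.fromSpec := by rw [hU.range_fromSpec]; exact hxU
  obtain ⟨V, hpV, t, ht⟩ := exists_lift_basicOpen hS (hU.fromSpec ≫ T.hom)
    (rr Q (Over.homMk hU.fromSpec rfl : Over.mk (hU.fromSpec ≫ T.hom) ⟶ T) s) p
  let W : T.left.Opens := (V.ι ≫ hU.fromSpec).opensRange
  let e : (W : Scheme.{u}) ≅ (V : Scheme.{u}) := IsOpenImmersion.isoOfRangeEq W.ι (V.ι ≫ hU.fromSpec) (by
    rw [Scheme.Opens.range_ι]; rfl)
  have he : e.hom ≫ V.ι ≫ hU.fromSpec = W.ι := IsOpenImmersion.isoOfRangeEq_hom_fac _ _ _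
  let g : opn T W ⟶ Over.mk (V.ι ≫ hU.fromSpec ≫ T.hom) := Over.homMk e.hom (by
    show e.hom ≫ V.ι ≫ hU.fromSpec ≫ T.hom = W.ι ≫ T.hom
    rw [← he]; simp only [Category.assoc])
  refine ⟨W, ⟨⟨p, hpV⟩, hp⟩, rr I g t, ?_⟩
  rw [sap_rr, ht, ← rr_comp, ← rr_comp]
  exact congrArg (fun h => rr Q h s) (Over.OverMorphism.ext (by
    show (e.hom ≫ V.ι) ≫ hU.fromSpec = W.ι
    rw [Category.assoc, he]))

/-- A section lifts when the invertible modules are trivial. -/
theorem exists_lift (hPic : ∀ L : T.left.Modules, PicF.IsInvertible L → Nonempty (L ≅ Coh.structureModule T.left))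
    (s : BigSite.sect Kf Q T) : ∃ t, sap π T t = s := by
  choose W hxW y hy using fun x => exists_lift_nhd hS T s x
  have hd : ∀ i k, ∃ a : Γ(T.left, W i ⊓ W k)ˣ, emW em T (W i ⊓ W k) a =
      rr I (incl T inf_le_right) (y k) - rr I (incl T inf_le_left) (y i) := fun i k => exists_emW hS T _ _ (by
    rw [map_sub, sap_rr, sap_rr, hy, hy, ← rr_comp, ← rr_comp, incl_inc, incl_inc, sub_self])
  choose a ha using hd
  have hda : ∀ i k (V : T.left.Opens) (h : V ≤ W i ⊓ W k),
      emW em T V (Units.map (rres h).hom.toMonoidHom (a i k)) =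
        rr I (incl T (h.trans inf_le_right)) (y k) - rr I (incl T (h.trans inf_le_left)) (y i) := fun i k V h => by
    rw [← rr_emW T h, ha, map_sub, ← rr_comp, ← rr_comp, incl_incl, incl_incl]
  let C : LineCoc.Cocycle T.left :=
    { ι := T.left
      W := W
      a := fun i k => (a i k : Γ(T.left, W i ⊓ W k))
      cover := fun x _ => Opens.mem_iSup.2 ⟨x, hxW x⟩
      self := fun i => by
        have h1 : a i i = 1 := emW_injective hS T _ (by
          have h0 : emW em T (W i ⊓ W i) 1 = 0 := by
            have := emW_mul (em := em) T (W i ⊓ W i) 1 1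
            rw [mul_one] at this
            exact left_eq_add.1 this
          rw [ha, h0]
          exact sub_self _)
        rw [h1]; rfl
      coc := fun i k l V h₁ h₂ h₃ => by
        have h1 : Units.map (rres h₁).hom.toMonoidHom (a i k) * Units.map (rres h₂).hom.toMonoidHom (a k l) =
            Units.map (rres h₃).hom.toMonoidHom (a i l) := emW_injective hS T _ (by
          rw [emW_mul, hda, hda, hda]
          abel)
        exact congrArg Units.val h1 }
  obtain ⟨e⟩ := hPic _ (LineCoc.isInvertible C)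
  have hu : ∀ i, ∃ u : Γ(T.left, W i)ˣ, (u : Γ(T.left, W i)) =
      rres (le_inf le_top le_rfl) ((show LineCoc.fam C ⊤ from sec e.inv ⊤).1 i) := fun i => by
    let r : Γ(T.left, W i) := e.hom.app (W i) (LineCoc.gen C i)
    have h1 : LineCoc.gen C i = r • res (LineCoc.mod C) le_top (sec e.inv ⊤) := by
      rw [sec_res, ← app_eq]
      exact (congr(Scheme.Modules.Hom.app $(e.hom_inv_id) (W i) (LineCoc.gen C i))).symm
    have h2 := congrArg (fun z : LineCoc.fam C (W i) => rres (le_inf le_rfl le_rfl) (z.1 i)) h1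
    refine ⟨(IsUnit.of_mul_eq_one r ?_).unit, rfl⟩
    have h3 : rres (le_inf le_rfl le_rfl : W i ≤ W i ⊓ W i)
        ((show LineCoc.fam C (W i) from LineCoc.gen C i).1 i) = 1 := by
      show rres _ (rres _ (C.a i i)) = 1
      rw [C.self, map_one, map_one]
    refine Eq.trans ?_ (h2.symm.trans h3)
    show _ = rres _ (rres _ r * rres _ ((show LineCoc.fam C ⊤ from sec e.inv ⊤).1 i))
    rw [map_mul, rres_rres, rres_rres, mul_comm]
    exact congrArg (· * _) (rres_self _ r).symm
  choose u hu using hu
  have hue : ∀ i k, Units.map (rres (inf_le_left : W i ⊓ W k ≤ W i)).hom.toMonoidHom (u i) =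
      a i k * Units.map (rres (inf_le_right : W i ⊓ W k ≤ W k)).hom.toMonoidHom (u k) := fun i k => Units.ext (by
    show rres _ (u i : Γ(T.left, W i)) = (a i k : Γ(T.left, W i ⊓ W k)) * rres _ (u k : Γ(T.left, W k))
    rw [hu, hu, rres_rres, rres_rres]
    have h1 := congrArg (rres (le_inf le_top le_rfl : W i ⊓ W k ≤ ⊤ ⊓ (W i ⊓ W k)))
      ((show LineCoc.fam C ⊤ from sec e.inv ⊤).2 i k)
    rw [map_mul, rres_rres, rres_rres, rres_rres] at h1
    exact h1.trans (congrArg (· * _) (rres_self _ _)))
  have hcov : Presieve.ofArrows (fun i : T.left => (opn T (W i)).left) (fun i => (inc T (W i)).left) ∈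
      (Kf).coverings T.left := by
    refine Scheme.zariskiPrecoverage_le_fppfPrecoverage _ ?_
    rw [Scheme.zariskiPrecoverage, Scheme.ofArrows_mem_precoverage_iff]
    exact ⟨fun x => ⟨x, ⟨x, hxW x⟩, rfl⟩, fun i => inferInstanceAs (IsOpenImmersion (W i).ι)⟩
  obtain ⟨t, ht⟩ := exists_glue_of_isPullback I (fun i : T.left => opn T (W i)) (fun i => inc T (W i)) hcov
    (fun i k => opn T (W i ⊓ W k)) (fun i k => incl T inf_le_left) (fun i k => incl T inf_le_right)
    (fun i k => isPullback_opens_inf _ _) (fun i => y i + emW em T (W i) (u i)) (fun i k => by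
      rw [map_add, map_add, rr_emW, rr_emW, hue, emW_mul, ha]
      abel)
  refine ⟨t, eq_of_cover Q (fun i : T.left => opn T (W i)) (fun i => inc T (W i)) hcov fun i => ?_⟩
  rw [← sap_rr, ht, map_add, hy, show sap π _ (emW em T (W i) (u i)) = 0 from sap_emb em _ _ w, add_zero]

end Groth.Agent.GaExt87
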