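import Groth.Prelude.Def_CGrpSh2
import Groth.Agent.SGA1Torsor.Basic
import Groth.Agent.AdeqSite.Exact
import Mathlib.CategoryTheory.Sites.EpiMono

/-!
# Sections of abelian sheaves on big sites, and the embedding of units
-/

set_option autoImplicit false

universe u w

open CategoryTheory CategoryTheory.Limits AlgebraicGeometry Opposite MonObj MonoidalCategory CartesianMonoidalCategory

noncomputable section

namespace Groth.Agent.GaExt87

variable {K : Precoverage Scheme.{u}} {S : Scheme.{u}}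

/-- Restriction of sections. -/
def rr (F : BigSite.Ab K S) {U V : Over S} (g : V ⟶ U) : BigSite.sect K F U →+ BigSite.sect K F V :=
  (F.obj.map g.op).hom

theorem rr_comp (F : BigSite.Ab K S) {U V W : Over S} (g : V ⟶ U) (h : W ⟶ V) (x : BigSite.sect K F U) :
    rr F (h ≫ g) x = rr F h (rr F g x) :=
  CategoryTheory.congr_fun (F.obj.map_comp g.op h.op) x

theorem rr_id (F : BigSite.Ab K S) {U : Over S} (x : BigSite.sect K F U) : rr F (𝟙 U) x = x :=
  CategoryTheory.congr_fun (F.obj.map_id (op U)) x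

/-- A map of sheaves on sections. -/
def sap {F G : BigSite.Ab K S} (f : F ⟶ G) (U : Over S) : BigSite.sect K F U →+ BigSite.sect K G U :=
  (f.hom.app (op U)).hom

theorem sap_rr {F G : BigSite.Ab K S} (f : F ⟶ G) {U V : Over S} (h : V ⟶ U) (x : BigSite.sect K F U) :
    sap f V (rr F h x) = rr G h (sap f U x) :=
  NatTrans.naturality_apply f.hom h.op x

theorem isSheafFor_cover (F : BigSite.Ab K S) {U : Over S} {em : Type w} (V : em → Over S) (f : ∀ i, V i ⟶ U)
    (hcov : Presieve.ofArrows (fun i => (V i).left) (fun i => (f i).left) ∈ K.coverings U.left) :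
    Presieve.IsSheafFor (F.obj ⋙ forget AddCommGrpCat.{u + 1}) (Presieve.ofArrows V f) := by
  have h1 := (Presheaf.isSheaf_iff_isSheaf_forget (QuotSh.J K S) F.obj (forget _)).1 F.property
  rw [isSheaf_iff_isSheaf_of_type] at h1
  refine Presieve.IsSheaf.isSheafFor h1 _ ?_
  rw [GrothendieckTopology.mem_over_iff]
  change Sieve.overEquiv U (Sieve.ofArrows V f) ∈ K.toGrothendieck U.left
  rw [Sieve.overEquiv_ofArrows]
  exact Precoverage.generate_mem_toGrothendieck hcov

theorem eq_of_cover (F : BigSite.Ab K S) {U : Over S} {em : Type w} (V : em → Over S) (f : ∀ i, V i ⟶ U)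
    (hcov : Presieve.ofArrows (fun i => (V i).left) (fun i => (f i).left) ∈ K.coverings U.left)
    {s t : BigSite.sect K F U} (h : ∀ i, rr F (f i) s = rr F (f i) t) : s = t :=
  (isSheafFor_cover F V f hcov).isSeparatedFor.ext fun _ _ ⟨i⟩ => h i

theorem exists_glue (F : BigSite.Ab K S) {U : Over S} {em : Type w} (V : em → Over S) (f : ∀ i, V i ⟶ U)
    (hcov : Presieve.ofArrows (fun i => (V i).left) (fun i => (f i).left) ∈ K.coverings U.left)
    (y : ∀ i, BigSite.sect K F (V i))
    (hy : ∀ (i j : em) (Z : Over S) (gi : Z ⟶ V i) (gj : Z ⟶ V j), gi ≫ f i = gj ≫ f j → rr F gi (y i) = rr F gj (y j)) :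
    ∃ t, ∀ i, rr F (f i) t = y i :=
  ((Presieve.isSheafFor_arrows_iff _ _).1 (isSheafFor_cover F V f hcov) y hy).exists

theorem exists_glue_of_isPullback (F : BigSite.Ab K S) {U : Over S} {em : Type w} (V : em → Over S)
    (f : ∀ i, V i ⟶ U)
    (hcov : Presieve.ofArrows (fun i => (V i).left) (fun i => (f i).left) ∈ K.coverings U.left)
    (W : em → em → Over S) (p : ∀ i j, W i j ⟶ V i) (q : ∀ i j, W i j ⟶ V j)
    (hpb : ∀ i j, IsPullback (p i j).left (q i j).left (f i).left (f j).left)
    (y : ∀ i, BigSite.sect K F (V i)) (hy : ∀ i j, rr F (p i j) (y i) = rr F (q i j) (y j)) :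
    ∃ t, ∀ i, rr F (f i) t = y i := by
  refine exists_glue F V f hcov y fun i j Z gi gj hg => ?_
  let h : Z ⟶ W i j := Over.homMk ((hpb i j).lift gi.left gj.left (congrArg CommaMorphism.left hg)) (by
    rw [← Over.w (p i j), IsPullback.lift_fst_assoc, Over.w gi])
  have h₁ : h ≫ p i j = gi := Over.OverMorphism.ext ((hpb i j).lift_fst _ _ _)
  have h₂ : h ≫ q i j = gj := Over.OverMorphism.ext ((hpb i j).lift_snd _ _ _)
  rw [← h₁, ← h₂, rr_comp, rr_comp, hy]

theorem subsingleton_of_isEmpty (hK : Scheme.zariskiPrecoverage ≤ K) (F : BigSite.Ab K S) (U : Over S)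
    [IsEmpty U.left] : Subsingleton (BigSite.sect K F U) :=
  ⟨fun s t => eq_of_cover F (em := PEmpty.{u + 1}) (fun i => i.elim) (fun i => i.elim)
    (hK _ (by
      rw [Scheme.zariskiPrecoverage, Scheme.ofArrows_mem_precoverage_iff]
      exact ⟨fun x => IsEmpty.elim inferInstance x, fun i => i.elim⟩)) fun i => i.elim⟩

/-! ### the embedding of units of a sheaf containing the multiplicative group -/

section Units

variable [(QuotSh.J K S).Subcanonical] {I : BigSite.Ab K S} (em : CGrpSh2.Gm K S ⟶ I)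

/-- The section of a unit. -/
def emb (W : Over S) (a : (Γ(W.left, ⊤))ˣ) : BigSite.sect K I W :=
  sap em W (show BigSite.sect K (CGrpSh2.Gm K S) W from ULift.up (Additive.ofMul (RedPts.gmPt a)))

theorem emb_mul {W : Over S} (a b : (Γ(W.left, ⊤))ˣ) : emb em W (a * b) = emb em W a + emb em W b := by
  rw [emb, emb, emb, RedPts.gmPt_mul, ← map_add]
  rfl

theorem rr_emb {W W' : Over S} (h : W' ⟶ W) (a : (Γ(W.left, ⊤))ˣ) :
    rr I h (emb em W a) = emb em W' (Units.map h.left.appTop.hom.toMonoidHom a) := by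
  have e : h ≫ RedPts.gmPt a = RedPts.gmPt (Units.map h.left.appTop.hom.toMonoidHom a) :=
    RedPts.gm_injective (by rw [RedPts.gm_comp, RedPts.gmFn_gmPt, RedPts.gmFn_gmPt]; rfl)
  rw [emb, emb, ← sap_rr, ← e]
  rfl

variable {Q : BigSite.Ab K S} {π : I ⟶ Q} {w : em ≫ π = 0}

theorem emb_injective [Mono em] (W : Over S) : Function.Injective (emb em W) := fun a b h => by
  have : Mono ((sheafToPresheaf (QuotSh.J K S) AddCommGrpCat.{u + 1}).map em) := inferInstance
  have : Mono (((sheafToPresheaf (QuotSh.J K S) AddCommGrpCat.{u + 1}).map em).app (op W)) := inferInstance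
  have h1 := (AddCommGrpCat.mono_iff_injective
    (((sheafToPresheaf (QuotSh.J K S) AddCommGrpCat.{u + 1}).map em).app (op W))).1 this h
  have h2 : RedPts.gmPt a = RedPts.gmPt b := congrArg (fun z => Additive.toMul (ULift.down z)) h1
  exact Units.ext (by rw [← RedPts.gmFn_gmPt (S := S) a, h2, RedPts.gmFn_gmPt])

theorem sap_emb (W : Over S) (a : (Γ(W.left, ⊤))ˣ) (hw : em ≫ π = 0) : sap π W (emb em W a) = 0 :=
  congr(($hw).hom.app (op W) _)

theorem exists_emb (hS : (ShortComplex.mk em π w).ShortExact) {W : Over S} (x : BigSite.sect K I W)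
    (hx : sap π W x = 0) : ∃ a, emb em W a = x := by
  have := hS.mono_f
  let Φ : BigSite.Ab K S ⥤ AddCommGrpCat.{u + 1} := sheafToPresheaf _ _ ⋙ (evaluation _ _).obj (op W)
  have : PreservesFiniteLimits Φ := comp_preservesFiniteLimits _ _
  have : Mono (Φ.map (ShortComplex.mk em π w).f) := inferInstance
  have h1 := ((ShortComplex.mk em π w).map Φ).exact_of_f_is_kernel
    (KernelFork.mapIsLimit _ hS.exact.fIsKernel Φ)
  rw [ShortComplex.ab_exact_iff] at h1
  obtain ⟨z, hz⟩ := h1 x hx
  refine ⟨RedPts.gmU (S := S) (Additive.toMul (ULift.down (show BigSite.sect K (CGrpSh2.Gm K S) W from z))), ?_⟩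
  rw [emb, RedPts.gmPt_gmU]
  exact hz

theorem imageSieve_mem (hS : (ShortComplex.mk em π w).ShortExact) {W : Over S} (x : BigSite.sect K Q W) :
    Presheaf.imageSieve π.hom x ∈ QuotSh.J K S W := by
  have := hS.epi_g
  have h : Sheaf.IsLocallySurjective π :=
    (Sheaf.isLocallySurjective_iff_epi' _ _).2 (inferInstanceAs (Epi (ShortComplex.mk em π w).g))
  exact Presheaf.imageSieve_mem (QuotSh.J K S) π.hom x

end Units

end Groth.Agent.GaExt87
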