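import Groth.Prelude.Def_CGrpSh2
import Groth.Agent.GaExt87.HomEdge
import Mathlib.Algebra.Homology.DerivedCategory.Ext.ExactSequences

/-!
# Dévissage of `Ext^1(-, G)` along towers with quotients `G_a`
-/

set_option autoImplicit false

universe u

open CategoryTheory CategoryTheory.Limits AlgebraicGeometry MonObj Abelian

noncomputable section

namespace Groth.Agent.GaExt87

variable {S : Scheme.{u}}

theorem subsingleton_ext_one_tower (M : BigSite.Ab Scheme.fppfPrecoverage S)
    (hGa : Subsingleton (Ext.{u + 1} (CGrpSh2.Ga Scheme.fppfPrecoverage S) M 1))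
    (n : ℕ) (U : Fin (n + 1) → Over S) [∀ j, GrpObj (U j)] [∀ j, IsCommMonObj (U j)]
    (incl : ∀ j : Fin n, U j.castSucc ⟶ U j.succ) (proj : ∀ j : Fin n, U j.succ ⟶ Red.Ga S)
    [∀ j, IsMonHom (incl j)] [∀ j, IsMonHom (proj j)] (w : ∀ j, incl j ≫ proj j = 1)
    (hex : ∀ j, (CGrpSh.seq Scheme.fppfPrecoverage (incl j) (proj j) (w j)).ShortExact)
    (h0 : IsZero (CGrpSh.pts Scheme.fppfPrecoverage (U 0))) :
    Subsingleton (Ext.{u + 1} (CGrpSh.pts Scheme.fppfPrecoverage (U (Fin.last n))) M 1) := by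
  suffices h : ∀ j : Fin (n + 1), Subsingleton (Ext.{u + 1} (CGrpSh.pts Scheme.fppfPrecoverage (U j)) M 1) from h _
  intro j
  induction j using Fin.induction with
  | zero =>
    refine subsingleton_of_forall_eq 0 fun e => ?_
    rw [← Ext.mk₀_id_comp e, h0.eq_of_src (𝟙 _) 0, Ext.mk₀_zero, Ext.zero_comp]
  | succ j ih =>
    refine subsingleton_of_forall_eq 0 fun e => ?_
    have h1 : Subsingleton (Ext.{u + 1} (CGrpSh.seq Scheme.fppfPrecoverage (incl j) (proj j) (w j)).X₁ M 1) := ih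
    obtain ⟨e', he'⟩ := Ext.contravariant_sequence_exact₂ (hex j) _ e (Subsingleton.elim _ _)
    have h : Subsingleton (Ext.{u + 1} (CGrpSh.seq Scheme.fppfPrecoverage (incl j) (proj j) (w j)).X₃ M 1) := hGa
    rw [← he', Subsingleton.elim e' 0]
    exact Ext.comp_zero ..

end Groth.Agent.GaExt87
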